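import Groth.Agent.Strict24.SHDvr
import Groth.Agent.Henz21.StrictMap
import Groth.Agent.Henz21.Henselization
import Groth.Agent.Unr55.SepClosedNormal
import Groth.Prelude.Def_EtRam

/-!
# Adjoining a strict henselization is unramified
-/

set_option autoImplicit false
universe u

open IsLocalRing Polynomial
open Groth.Agent

namespace Strict24

variable {A A' K₁ E N : Type u} [CommRing A] [IsDomain A] [IsDiscreteValuationRing A] [CommRing A']
  [IsLocalRing A'] [Algebra A A'] [IsLocalHom (algebraMap A A')] [Hensel.IsStrictHenselization A A']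
  [Field K₁] [Field E] [Field N] [IsAlgClosed N] (W : ValuationSubring N) (ι : E →+* N) (j : K₁ →+* E)
  (fA : A →+* ((W.comap ι).comap j)) [IsLocalHom fA]
  [IsDiscreteValuationRing ((W.comap ι).comap j)]
  (gA : A' →+* W) [IsLocalHom gA]

set_option maxHeartbeats 1000000 in
theorem unramified_adjoin
    (hgA : gA.comp (algebraMap A A') =
      ((EtRam.inclOfComap W ι).comp (EtRam.inclOfComap (W.comap ι) j)).comp fA)
    (hE : ∀ S : Subfield N, (∀ x, ι (j x) ∈ S) → (∀ a, (gA a : N) ∈ S) → ∀ e, ι e ∈ S) :
    (maximalIdeal ((W.comap ι).comap j)).map (EtRam.inclOfComap (W.comap ι) j) =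
        maximalIdeal (W.comap ι) ∧
      @Algebra.IsSeparable (ResidueField ((W.comap ι).comap j)) (ResidueField (W.comap ι)) _ _
        (ResidueField.map (EtRam.inclOfComap (W.comap ι) j)).toAlgebra := by
  classical
  let U := (W.comap ι).comap j
  let iU : U →+* W.comap ι := EtRam.inclOfComap (W.comap ι) j
  let iW : W.comap ι →+* W := EtRam.inclOfComap W ι
  have : HenselianLocalRing W := Unr55.SepClosedNormal.henselianLocalRing W N
  have : IsSepClosed (ResidueField W) := Unr55.SepClosedNormal.isSepClosed_residueField W N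
  let Ush := Henz21.StrictHenselization U
  have : IsLocalHom (iW.comp iU) := RingHom.isLocalHom_comp _ _
  obtain ⟨hU, hhU, _⟩ := Henz21.exists_map_of_strictHenselization (Ash := Ush) (iW.comp iU)
  have : IsLocalHom hU := ‹_›
  have := isDomain_strictHenselization U Ush
  have := isDiscreteValuationRing U Ush
  have hUsh : (maximalIdeal U).map (algebraMap U Ush) = maximalIdeal Ush := S0538.result U Ush
  let ψ : Ush →+* N := W.subtype.comp hU
  have hψU : ∀ v : U, ψ (algebraMap U Ush v) = ι (j (v : K₁)) := fun v =>
    congrArg Subtype.val (RingHom.congr_fun hhU v)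
  have hψ : Function.Injective ψ := injective_of_local U hUsh ψ (fun v w h => by
    exact Subtype.ext (j.injective (ι.injective ((hψU v).symm.trans (Eq.trans h (hψU w))))))
  -- `A'` maps through the strict henselization of `U`
  let fAU : A →+* Ush := (algebraMap U Ush).comp fA
  have : IsLocalHom fAU := RingHom.isLocalHom_comp _ _
  have hres : hU.comp fAU = gA.comp (algebraMap A A') := by
    rw [hgA, ← RingHom.comp_assoc, hhU]
  let τW := ResidueField.map hU
  let τA := ResidueField.map gA
  have hsepA : Algebra.IsSeparable (ResidueField A) (ResidueField A') :=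
    (Hensel.IsStrictHenselization.isSepClosure (R := A) (S := A')).separable
  have hclU : IsSepClosed (ResidueField Ush) :=
    (Hensel.IsStrictHenselization.isSepClosure (R := U) (S := Ush)).sep_closed
  have hcompat : τW.comp (ResidueField.map fAU) = τA.comp (ResidueField.map (algebraMap A A')) := by
    refine RingHom.ext fun r => ?_
    obtain ⟨r, rfl⟩ := residue_surjective r
    exact congrArg (residue W) (RingHom.congr_fun hres r)
  have hmem : ∀ z, τA z ∈ τW.range := by
    intro z
    let p := minpoly (ResidueField A) z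
    have hp : p.Separable := Algebra.IsSeparable.isSeparable (ResidueField A) z
    have hsplit : (p.map (ResidueField.map fAU)).Splits :=
      IsSepClosed.splits_of_separable _ hp.map
    have h0 : eval₂ (τW.comp (ResidueField.map fAU)) (τA z) p = 0 := by
      have halg : algebraMap (ResidueField A) (ResidueField A') = ResidueField.map (algebraMap A A') :=
        RingHom.ext fun r => by
          obtain ⟨r, rfl⟩ := residue_surjective r
          rfl
      rw [hcompat, ← halg, ← hom_eval₂, ← aeval_def, minpoly.aeval, map_zero]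
    have hroot : ((p.map (ResidueField.map fAU)).map τW).IsRoot (τA z) := by
      rw [IsRoot, Polynomial.map_map, eval_map, h0]
    have hne : p.map (ResidueField.map fAU) ≠ 0 :=
      Polynomial.map_ne_zero (minpoly.ne_zero (Algebra.IsSeparable.isIntegral (ResidueField A) z))
    exact hsplit.mem_range_of_isRoot hne hroot
  choose τf hτf using hmem
  have hinj := τW.injective
  let τ : ResidueField A' →+* ResidueField Ush :=
    { toFun := τf
      map_one' := hinj (by rw [hτf, map_one, map_one])
      map_mul' := fun x y => hinj (by rw [hτf, map_mul, map_mul, hτf, hτf])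
      map_zero' := hinj (by rw [hτf, map_zero, map_zero])
      map_add' := fun x y => hinj (by rw [hτf, map_add, map_add, hτf, hτf]) }
  obtain ⟨g₀, ⟨hg₀, hg₀τ⟩, -⟩ := Hensel.IsStrictHenselization.universal (R := A) (S := A') Ush fAU τ
    (RingHom.ext fun r => hinj ((hτf _).trans (RingHom.congr_fun hcompat r).symm))
  have hkey : hU.comp g₀ = gA := by
    obtain ⟨g, -, hg⟩ := Hensel.IsStrictHenselization.universal (R := A) (S := A') W
      (gA.comp (algebraMap A A')) τA (RingHom.ext fun r => by
        obtain ⟨r, rfl⟩ := residue_surjective r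
        rfl)
    rw [hg gA ⟨rfl, fun x => (ResidueField.map_residue gA x).symm⟩]
    refine hg _ ⟨by rw [RingHom.comp_assoc, hg₀, hres], fun x => ?_⟩
    show residue W (hU (g₀ x)) = τA (residue A' x)
    rw [← hτf, ← ResidueField.map_residue hU, hg₀τ]
    rfl
  -- the image of the fraction field
  let KU := FractionRing Ush
  let ψK : KU →+* N := IsFractionRing.lift hψ
  have hψK : ∀ d, ψK (algebraMap Ush KU d) = ψ d := fun d => IsFractionRing.lift_algebraMap hψ d
  have hrange : ∀ e : W.comap ι, ∃ d : Ush, hU d = iW e := by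
    intro e
    have he : ι (e : E) ∈ ψK.fieldRange := by
      refine hE ψK.fieldRange (fun x => ?_) (fun a => ?_) (e : E)
      · obtain ⟨a, b, -, rfl⟩ := IsFractionRing.div_surjective (A := U) x
        refine ⟨algebraMap Ush KU (algebraMap U Ush a) / algebraMap Ush KU (algebraMap U Ush b), ?_⟩
        rw [map_div₀, hψK, hψK, hψU, hψU, map_div₀, map_div₀]
        rfl
      · exact ⟨algebraMap Ush KU (g₀ a), by
          rw [hψK]; exact congrArg Subtype.val (RingHom.congr_fun hkey a)⟩
    obtain ⟨y, hy⟩ := he
    obtain ⟨a, b, hb, rfl⟩ := IsFractionRing.div_surjective (A := Ush) y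
    rw [map_div₀, hψK, hψK] at hy
    rcases ValuationRing.dvd_total b a with ⟨c, rfl⟩ | ⟨c, rfl⟩
    · refine ⟨c, Subtype.ext ?_⟩
      show ψ c = ι (e : E)
      rw [← hy, map_mul, mul_div_cancel_left₀ _ ((map_ne_zero_iff _ hψ).mpr (nonZeroDivisors.ne_zero hb))]
    · by_cases hc : IsUnit c
      · refine ⟨↑hc.unit⁻¹, Subtype.ext ?_⟩
        show ψ ↑hc.unit⁻¹ = ι (e : E)
        have ha : ψ a ≠ 0 := (map_ne_zero_iff _ hψ).mpr fun h => nonZeroDivisors.ne_zero hb (by rw [h, zero_mul])
        have hcc : ψ c * ψ ↑hc.unit⁻¹ = 1 := by rw [← map_mul, IsUnit.mul_val_inv, map_one]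
        rw [← hy, map_mul, div_mul_cancel_left₀ ha, ← eq_inv_of_mul_eq_one_right hcc]
      · exfalso
        have h1 : hU c * iW e = 1 := by
          have hb0 : ψ a * ψ c ≠ 0 := by
            rw [← map_mul]; exact (map_ne_zero_iff _ hψ).mpr (nonZeroDivisors.ne_zero hb)
          refine Subtype.ext ?_
          show ψ c * ι (e : E) = 1
          rw [← hy, map_mul, div_mul_cancel_left₀ (left_ne_zero_of_mul hb0),
            mul_inv_cancel₀ (right_ne_zero_of_mul hb0)]
        exact hc (isUnit_of_map_unit hU c (IsUnit.of_mul_eq_one _ h1))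
  obtain ⟨π, hπ⟩ := IsDiscreteValuationRing.exists_irreducible U
  refine ⟨le_antisymm (Ideal.map_le_iff_le_comap.mpr fun v hv => map_nonunit iU v hv) fun e he => ?_, ?_⟩
  · obtain ⟨d, hd⟩ := hrange e
    have hdm : d ∈ maximalIdeal Ush := fun hu => he (isUnit_of_map_unit iW e (hd ▸ hu.map hU))
    rw [← hUsh, (IsDiscreteValuationRing.irreducible_iff_uniformizer π).mp hπ, Ideal.map_span,
      Set.image_singleton, Ideal.mem_span_singleton'] at hdm
    obtain ⟨d', rfl⟩ := hdm
    have hπ0 : j (π : K₁) ≠ 0 := (map_ne_zero j).mpr fun h => hπ.ne_zero (Subtype.ext h)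
    have hπι : ι (j (π : K₁)) ≠ 0 := (map_ne_zero ι).mpr hπ0
    have hd' : ι ((e : E) / j (π : K₁)) = ψ d' := by
      rw [map_div₀, show ι (e : E) = ψ (d' * algebraMap U Ush π) from (congrArg Subtype.val hd).symm,
        map_mul, hψU, mul_div_cancel_right₀ _ hπι]
    have hmem : (e : E) / j (π : K₁) ∈ W.comap ι := show ι _ ∈ W from hd' ▸ (hU d').2
    have he' : e = iU π * ⟨(e : E) / j (π : K₁), hmem⟩ :=
      Subtype.ext (show (e : E) = j (π : K₁) * ((e : E) / j (π : K₁)) from (mul_div_cancel₀ _ hπ0).symm)
    rw [he']
    exact Ideal.mul_mem_right _ _ (Ideal.mem_map_of_mem _ ((mem_maximalIdeal _).mpr hπ.not_isUnit))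
  · let _ : Algebra (ResidueField U) (ResidueField (W.comap ι)) := (ResidueField.map iU).toAlgebra
    have hsepU : Algebra.IsSeparable (ResidueField U) (ResidueField Ush) :=
      (Hensel.IsStrictHenselization.isSepClosure (R := U) (S := Ush)).separable
    refine ⟨fun z => ?_⟩
    obtain ⟨e, rfl⟩ := residue_surjective z
    obtain ⟨d, hd⟩ := hrange e
    let p := minpoly (ResidueField U) (residue Ush d)
    have hp : p.Separable := Algebra.IsSeparable.isSeparable (ResidueField U) (residue Ush d)
    have hz : aeval (residue (W.comap ι) e) p = 0 := by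
      apply (ResidueField.map iW).injective
      have h1 : (ResidueField.map iW).comp (algebraMap (ResidueField U) (ResidueField (W.comap ι))) =
          τW.comp (algebraMap (ResidueField U) (ResidueField Ush)) := RingHom.ext fun r => by
        obtain ⟨r, rfl⟩ := residue_surjective r
        exact congrArg (residue W) (RingHom.congr_fun hhU r).symm
      have h2 : (ResidueField.map iW) (residue (W.comap ι) e) = τW (residue Ush d) := by
        rw [ResidueField.map_residue, ResidueField.map_residue, hd]
      rw [map_zero, aeval_def, hom_eval₂, h1, h2, ← hom_eval₂, ← aeval_def, minpoly.aeval, map_zero]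
    exact Polynomial.Separable.of_dvd hp (minpoly.dvd _ _ hz)

end Strict24
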