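import Groth.Agent.Strict24.Stable
import Groth.Agent.Strict24.Unramified
import Groth.Agent.EtAlg23.SolutionTower

/-!
# Solutions descend from strict henselizations
-/

set_option autoImplicit false
universe u

open IsLocalRing
open Groth.Agent Groth.Agent.EtAlg23

namespace Strict24

theorem dominates_comap' {A : Type u} [CommRing A] [IsLocalRing A] {F N : Type u} [Field F] [Field N]
    (W : ValuationSubring N) (ι : F →+* N) (g : A →+* F) (fA : A →+* W) [IsLocalHom fA]
    (h : ∀ a, ι (g a) = (fA a : N)) : EtRam.Dominates A g (W.comap ι) := by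
  have hmem : ∀ a, g a ∈ W.comap ι := fun a => show ι (g a) ∈ W from h a ▸ (fA a).2
  refine ⟨hmem, fun a ha => (ValuationSubring.valuation_lt_one_iff _ ⟨_, hmem a⟩).mp ?_⟩
  rw [mem_maximalIdeal, mem_nonunits_iff, ← isUnit_map_iff (EtRam.inclOfComap W ι),
    show EtRam.inclOfComap W ι ⟨g a, hmem a⟩ = fA a from Subtype.ext (h a)]
  exact map_nonunit fA a ha

theorem conclude_of_eq {K₁ M : Type u} [Field K₁] [Field M] (f : K₁ →+* M) {V W : ValuationSubring M}
    (e : V = W)
    (h : @EtRam.IsWeaklyUnramified (V.comap f) V _ _ _ _ (EtRam.inclOfComap V f).toAlgebra ∧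
      @Algebra.IsGeometricallyReduced (ResidueField (V.comap f)) (ResidueField V) _ _
        (ResidueField.map (EtRam.inclOfComap V f)).toAlgebra) :
    @EtRam.IsWeaklyUnramified (W.comap f) W _ _ _ _ (EtRam.inclOfComap W f).toAlgebra ∧
      @Algebra.IsGeometricallyReduced (ResidueField (W.comap f)) (ResidueField W) _ _
        (ResidueField.map (EtRam.inclOfComap W f)).toAlgebra := by
  subst e
  exact h

variable {A B A' B' K L K' L' : Type u} [CommRing A] [IsDomain A] [IsDiscreteValuationRing A]
  [CommRing B] [IsDomain B] [IsDiscreteValuationRing B] [Algebra A B] [IsLocalHom (algebraMap A B)]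
  [CommRing A'] [IsDomain A'] [IsDiscreteValuationRing A'] [Algebra A A'] [IsLocalHom (algebraMap A A')]
  [Hensel.IsStrictHenselization A A']
  [CommRing B'] [IsDomain B'] [IsDiscreteValuationRing B'] [Algebra B B'] [IsLocalHom (algebraMap B B')]
  [Hensel.IsStrictHenselization B B']
  [Algebra A' B'] [IsLocalHom (algebraMap A' B')] [Algebra A B'] [IsScalarTower A A' B']
  [IsScalarTower A B B']
  [Field K] [Field L] [Algebra A K] [IsFractionRing A K] [Algebra B L] [IsFractionRing B L]
  [Algebra K L] [Algebra A L] [IsScalarTower A K L] [IsScalarTower A B L]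
  [Field K'] [Field L'] [Algebra A' K'] [IsFractionRing A' K'] [Algebra B' L'] [IsFractionRing B' L']
  [Algebra K' L'] [Algebra A' L'] [IsScalarTower A' K' L'] [IsScalarTower A' B' L']
  [Algebra K K'] [Algebra A K'] [IsScalarTower A K K'] [IsScalarTower A A' K']
  [Algebra L L'] [Algebra B L'] [IsScalarTower B L L'] [IsScalarTower B B' L']

set_option maxHeartbeats 4000000 in
variable (A A' K K' L L' B B') in
include A A' B B' in
theorem exists_descended [Algebra.IsSeparable K K'] (K₁' : Type u) [Field K₁'] [Algebra K' K₁']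
    [FiniteDimensional K' K₁'] (hsol : EtRam.IsSolution B' K' L' K₁') :
    ∃ (K₁ : Type u) (_ : Field K₁) (_ : Algebra K K₁), FiniteDimensional K K₁ ∧
      (Algebra.IsSeparable K' K₁' → Algebra.IsSeparable K K₁) ∧ EtRam.IsSolution B K L K₁ := by
  classical
  let _ : Algebra K K₁' := ((algebraMap K' K₁').comp (algebraMap K K')).toAlgebra
  have : IsScalarTower K K' K₁' := IsScalarTower.of_algebraMap_eq fun _ => rfl
  have : Algebra.IsAlgebraic K K₁' := Algebra.IsAlgebraic.trans K K' K₁'
  let ι := Module.Free.ChooseBasisIndex K' K₁'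
  let b : Module.Basis ι K' K₁' := Module.Free.chooseBasis K' K₁'
  let P : Polynomial K := ∏ i, minpoly K (b i)
  let Ω := AlgebraicClosure K
  let K₁ : IntermediateField K Ω := IntermediateField.adjoin K (P.rootSet Ω)
  have : FiniteDimensional K K₁ := IntermediateField.finiteDimensional_adjoin
    fun x _ => Algebra.IsIntegral.isIntegral x
  have hP0 : P ≠ 0 := Finset.prod_ne_zero_iff.mpr fun i _ => minpoly.ne_zero (Algebra.IsIntegral.isIntegral _)
  have hsplit : (P.map (algebraMap K K₁)).Splits :=
    (IntermediateField.adjoin_rootSet_isSplittingField (IsAlgClosed.splits _)).splits'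
  refine ⟨K₁, inferInstance, inferInstance, inferInstance, fun hs => ?_, ?_⟩
  · have : Algebra.IsSeparable K K₁' := Algebra.IsSeparable.trans K K' K₁'
    refine (IntermediateField.isSeparable_adjoin_iff_isSeparable K Ω).mpr fun x hx => ?_
    rw [Polynomial.mem_rootSet, map_prod, Finset.prod_eq_zero_iff] at hx
    obtain ⟨-, i, -, hi⟩ := hx
    exact Polynomial.Separable.of_dvd (Algebra.IsSeparable.isSeparable K (b i)) (minpoly.dvd _ _ hi)
  intro M _ _ _ _ _ _ hgen W hW
  have := Ram24.finiteDimensional_of_adjoin_eq_top (K := K) hgen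
  have := Ram24.dvr_of_dominates (B := B) (L := L) W hW
  let f : K₁ →+* M := algebraMap K₁ M
  let N := AlgebraicClosure M
  let gM : M →+* N := algebraMap M N
  -- the valuation ring of the algebraic closure
  let rW : W →+* N := gM.comp W.subtype
  have hrW : Function.Injective rW := gM.injective.comp Subtype.val_injective
  have hI : (maximalIdeal W).map rW.rangeRestrict ≠ ⊤ := fun htop => by
    have h1 := Ideal.comap_map_of_surjective rW.rangeRestrict rW.rangeRestrict_surjective (maximalIdeal W)
    rw [htop, Ideal.comap_top] at h1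
    refine (maximalIdeal.isMaximal W).ne_top ?_
    rw [h1, eq_comm, sup_eq_left]
    intro x hx
    have : rW x = 0 := congrArg Subtype.val hx
    rw [hrW (this.trans (map_zero rW).symm)]
    exact zero_mem _
  obtain ⟨Wb, hle, hnu⟩ := Ideal.image_subset_nonunits_valuationSubring _ hI
  have hWb : Wb.comap gM = W := RamTower.comap_eq_of_dominates (L := M) (M := N) (V := W)
    ⟨fun w => hle ⟨w, rfl⟩, fun w hw => (ValuationSubring.mem_nonunits_iff Wb).1
      (hnu ⟨rW.rangeRestrict w, Ideal.mem_map_of_mem _ hw, rfl⟩)⟩
  have : HenselianLocalRing Wb := Unr55.SepClosedNormal.henselianLocalRing Wb N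
  have : IsSepClosed (ResidueField Wb) := Unr55.SepClosedNormal.isSepClosed_residueField Wb N
  have hmemB : ∀ x : B, gM (algebraMap L M (algebraMap B L x)) ∈ Wb := fun x =>
    hle ⟨⟨_, hW.1 x⟩, rfl⟩
  let fB : B →+* Wb := (gM.comp ((algebraMap L M).comp (algebraMap B L))).codRestrict Wb hmemB
  have : IsLocalHom fB := ⟨fun x hx => by
    by_contra hnux
    have hlt : Wb.valuation ((fB x : Wb) : N) < 1 := (ValuationSubring.mem_nonunits_iff Wb).1
      (hnu ⟨rW.rangeRestrict ⟨_, hW.1 x⟩, Ideal.mem_map_of_mem _
        ((ValuationSubring.valuation_lt_one_iff W ⟨_, hW.1 x⟩).mpr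
          (hW.2 x ((mem_maximalIdeal _).mpr hnux))), rfl⟩)
    exact (mem_maximalIdeal _).mp ((ValuationSubring.valuation_lt_one_iff Wb (fB x)).mpr hlt) hx⟩
  obtain ⟨gB, hgB, hgBloc⟩ := Henz21.exists_map_of_strictHenselization (Ash := B') fB
  have := hgBloc
  let gA : A' →+* Wb := gB.comp (algebraMap A' B')
  have : IsLocalHom gA := RingHom.isLocalHom_comp _ _
  have hgBx : ∀ x : B, (gB (algebraMap B B' x) : N) = gM (algebraMap L M (algebraMap B L x)) := fun x =>
    congrArg Subtype.val (RingHom.congr_fun hgB x)
  have hbase : ∀ a : A, gM (algebraMap L M (algebraMap B L (algebraMap A B a))) =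
      gM (algebraMap K M (algebraMap A K a)) := fun a => by
    rw [← IsScalarTower.algebraMap_apply A B L, IsScalarTower.algebraMap_apply A K L,
      ← IsScalarTower.algebraMap_apply K L M]
  have hgAx : ∀ a : A, (gA (algebraMap A A' a) : N) = gM (algebraMap K M (algebraMap A K a)) := fun a => by
    rw [RingHom.comp_apply, ← IsScalarTower.algebraMap_apply A A' B', IsScalarTower.algebraMap_apply A B B',
      hgBx, hbase]
  let ψA : A' →+* N := Wb.subtype.comp gA
  let ψB : B' →+* N := Wb.subtype.comp gB
  have hψA : Function.Injective ψA := injective_of_local A (S0538.result A A') ψA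
    (fun x y h => IsFractionRing.injective A K ((algebraMap K M).injective (gM.injective
      ((hgAx x).symm.trans (Eq.trans h (hgAx y))))))
  have hψB : Function.Injective ψB := injective_of_local B (S0538.result B B') ψB
    (fun x y h => IsFractionRing.injective B L ((algebraMap L M).injective (gM.injective
      ((hgBx x).symm.trans (Eq.trans h (hgBx y))))))
  let jK : K' →+* N := IsFractionRing.lift hψA
  let jL : L' →+* N := IsFractionRing.lift hψB
  have hjK : ∀ a, jK (algebraMap A' K' a) = ψA a := fun a => IsFractionRing.lift_algebraMap hψA a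
  have hjL : ∀ x, jL (algebraMap B' L' x) = ψB x := fun x => IsFractionRing.lift_algebraMap hψB x
  have hKK : ∀ k, jK (algebraMap K K' k) = gM (algebraMap K M k) := by
    intro k
    obtain ⟨x, y, -, rfl⟩ := IsFractionRing.div_surjective (A := A) k
    simp only [map_div₀, ← IsScalarTower.algebraMap_apply A K K', IsScalarTower.algebraMap_apply A A' K', hjK]
    exact congrArg₂ (· / ·) (hgAx x) (hgAx y)
  have hLL : ∀ l, jL (algebraMap L L' l) = gM (algebraMap L M l) := by
    intro l
    obtain ⟨x, y, -, rfl⟩ := IsFractionRing.div_surjective (A := B) l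
    simp only [map_div₀, ← IsScalarTower.algebraMap_apply B L L', IsScalarTower.algebraMap_apply B B' L', hjL]
    exact congrArg₂ (· / ·) (hgBx x) (hgBx y)
  have hKL : ∀ k, jL (algebraMap K' L' k) = jK k := by
    intro k
    obtain ⟨x, y, -, rfl⟩ := IsFractionRing.div_surjective (A := A') k
    simp only [map_div₀, ← IsScalarTower.algebraMap_apply A' K' L', IsScalarTower.algebraMap_apply A' B' L',
      hjK, hjL]
    rfl
  let _ : Algebra K' N := jK.toAlgebra
  let _ : Algebra L' N := jL.toAlgebra
  have : IsScalarTower K' L' N := IsScalarTower.of_algebraMap_eq fun k => (hKL k).symm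
  have : IsScalarTower K K' N := IsScalarTower.of_algebraMap_eq fun k =>
    (IsScalarTower.algebraMap_apply K M N k).trans (hKK k).symm
  let fN : K₁ →ₐ[K] N :=
    { gM.comp f with commutes' := fun k => (congrArg gM (IsScalarTower.algebraMap_apply K K₁ M k).symm).trans (IsScalarTower.algebraMap_apply K M N k).symm }
  -- the two fields
  let c := Module.finBasis K K₁
  let s : Set N := Set.range fun i => fN (c i)
  have hint : ∀ x ∈ s, IsIntegral K x := by
    rintro x ⟨i, rfl⟩
    exact (Algebra.IsIntegral.isIntegral (c i)).map fN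
  let E : IntermediateField K' N := IntermediateField.adjoin K' s
  let M' : IntermediateField L' N := IntermediateField.adjoin L' s
  have : Finite s := Set.finite_range _
  have hintK' : ∀ x ∈ s, IsIntegral K' x := fun x hx => (hint x hx).tower_top
  have : FiniteDimensional K' E := IntermediateField.finiteDimensional_adjoin hintK'
  have : FiniteDimensional L' M' := IntermediateField.finiteDimensional_adjoin
    fun x hx => (hintK' x hx).tower_top
  have hfE : ∀ x, fN x ∈ E := by
    intro x
    rw [← c.sum_repr x, map_sum]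
    refine sum_mem fun i _ => ?_
    rw [map_smul, ← IsScalarTower.algebraMap_smul K' (c.repr x i) (fN (c i))]
    exact E.smul_mem (IntermediateField.subset_adjoin _ _ ⟨i, rfl⟩)
  have hEM : ∀ x ∈ E, x ∈ M' := by
    intro x hx
    induction hx using IntermediateField.adjoin_induction with
    | mem y hy => exact IntermediateField.subset_adjoin _ _ hy
    | algebraMap k => exact (hKL k) ▸ M'.algebraMap_mem (algebraMap K' L' k)
    | add a b _ _ ha hb => exact add_mem ha hb
    | inv a _ ha => exact inv_mem ha
    | mul a b _ _ ha hb => exact mul_mem ha hb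
  have hMM : ∀ x, gM x ∈ M' := by
    intro x
    have hx : x ∈ Algebra.adjoin L (Set.range f) := hgen ▸ Algebra.mem_top
    induction hx using Algebra.adjoin_induction with
    | mem y hy =>
      obtain ⟨z, rfl⟩ := hy
      exact hEM _ (hfE z)
    | algebraMap l => exact hLL l ▸ M'.algebraMap_mem (algebraMap L L' l)
    | add a b _ _ ha hb => rw [map_add]; exact add_mem ha hb
    | mul a b _ _ ha hb => rw [map_mul]; exact mul_mem ha hb
  let g : M →+* M' := gM.codRestrict M' hMM
  let fE : K₁ →+* E := (gM.comp f).codRestrict E hfE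
  let iE : E →+* M' := E.val.toRingHom.codRestrict M' fun x => hEM x x.2
  -- `K₁'` embeds into `E`
  let σ : K₁' →ₐ[K'] N := IsAlgClosed.lift
  have hσ : ∀ y, σ y ∈ E := by
    have hb : ∀ i, σ (b i) ∈ E := by
      intro i
      have hroot : ((P.map (algebraMap K K₁)).map fN.toRingHom).IsRoot (σ (b i)) := by
        rw [Polynomial.IsRoot, Polynomial.map_map, show fN.toRingHom.comp (algebraMap K K₁) = algebraMap K N from
          fN.comp_algebraMap, Polynomial.eval_map, ← Polynomial.aeval_def,
          show σ (b i) = (σ.restrictScalars K) (b i) from rfl, Polynomial.aeval_algHom_apply, map_prod,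
          Finset.prod_eq_zero (Finset.mem_univ i) (minpoly.aeval K (b i)), map_zero]
      obtain ⟨z, hz⟩ := hsplit.mem_range_of_isRoot (Polynomial.map_ne_zero hP0) hroot
      exact hz ▸ hfE z
    intro y
    rw [← b.sum_repr y, map_sum]
    refine sum_mem fun i _ => ?_
    rw [map_smul]
    exact E.smul_mem (hb i)
  let σE : K₁' →+* E := σ.toRingHom.codRestrict E hσ
  let _ : Algebra K₁' E := σE.toAlgebra
  have : IsScalarTower K' K₁' E := IsScalarTower.of_algebraMap_eq fun k => Subtype.ext (σ.commutes k).symm
  have : FiniteDimensional K₁' E := FiniteDimensional.right K' K₁' E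
  have hsolE : EtRam.IsSolution B' K' L' E := isSolution_of_tower (A := A') K₁' E hsol
  let _ : Algebra E M' := iE.toAlgebra
  let _ : Algebra K' M' := ((algebraMap L' M').comp (algebraMap K' L')).toAlgebra
  have : IsScalarTower K' L' M' := IsScalarTower.of_algebraMap_eq fun _ => rfl
  have : IsScalarTower K' E M' := IsScalarTower.of_algebraMap_eq fun k => Subtype.ext (hKL k)
  have hgenM : Algebra.adjoin L' (Set.range (algebraMap E M')) = ⊤ := by
    rw [eq_top_iff]
    refine le_trans ?_ (Algebra.adjoin_mono (s := {x : M' | (x : N) ∈ s}) ?_)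
    · refine le_of_eq (Subalgebra.map_injective (f := M'.val) M'.val.injective ?_)
      rw [Algebra.map_top, IntermediateField.range_val, AlgHom.map_adjoin,
        show M'.toSubalgebra = Algebra.adjoin L' s from IntermediateField.adjoin_toSubalgebra_of_isAlgebraic
          fun x hx => ((hintK' x hx).tower_top (A := L')).isAlgebraic]
      congr 1
      ext x
      exact ⟨fun hx => ⟨⟨x, IntermediateField.subset_adjoin _ _ hx⟩, hx, rfl⟩, fun ⟨y, hy, hyx⟩ => hyx ▸ hy⟩
    · intro x hx
      exact ⟨⟨(x : N), IntermediateField.subset_adjoin _ _ hx⟩, Subtype.ext rfl⟩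
  have hdom' : EtRam.Dominates B' ((algebraMap L' M').comp (algebraMap B' L')) (Wb.comap M'.val.toRingHom) :=
    dominates_comap' Wb M'.val.toRingHom _ gB fun x => hjL x
  obtain ⟨hw', hg'⟩ := hsolE M' hgenM (Wb.comap M'.val.toRingHom) hdom'
  set W' := Wb.comap M'.val.toRingHom with hW'
  have := Ram24.dvr_of_dominates (B := B') (L := L') W' hdom'
  -- `U ⊆ U'` is unramified
  let fA : A →+* Wb := gA.comp (algebraMap A A')
  have : IsLocalHom fA := RingHom.isLocalHom_comp _ _
  have hdomU : EtRam.Dominates A ((algebraMap K K₁).comp (algebraMap A K))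
      ((Wb.comap (M'.val.toRingHom.comp iE)).comap fE) :=
    dominates_comap' Wb ((M'.val.toRingHom.comp iE).comp fE) _ fA fun a => by
      show gM (algebraMap K₁ M (algebraMap K K₁ (algebraMap A K a))) = _
      rw [← IsScalarTower.algebraMap_apply K K₁ M]
      exact (hgAx a).symm
  have := Ram24.dvr_of_dominates (B := A) (L := K) _ hdomU
  let fAU : A →+* (Wb.comap (M'.val.toRingHom.comp iE)).comap fE :=
    RamTower.dmap hdomU
  have : IsLocalHom fAU := RamTower.isLocalHom_dmap hdomU
  obtain ⟨hwU, hsU⟩ := unramified_adjoin (A := A) Wb (M'.val.toRingHom.comp iE) fE fAU gA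
    (RingHom.ext fun a => Subtype.ext (by
      show ((gA (algebraMap A A' a) : Wb) : N) = gM (algebraMap K₁ M (algebraMap K K₁ (algebraMap A K a)))
      rw [← IsScalarTower.algebraMap_apply K K₁ M]
      exact hgAx a))
    (fun S hS1 hS2 e => by
      have key : ∀ x ∈ E, x ∈ S := by
        intro x hx
        induction hx using IntermediateField.adjoin_induction with
        | mem y hy => obtain ⟨i, rfl⟩ := hy; exact hS1 (c i)
        | algebraMap k =>
          obtain ⟨x, y, -, rfl⟩ := IsFractionRing.div_surjective (A := A') k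
          show jK _ ∈ S
          rw [map_div₀, hjK, hjK]
          exact div_mem (hS2 x) (hS2 y)
        | add a b _ _ ha hb => exact add_mem ha hb
        | inv a _ ha => exact inv_mem ha
        | mul a b _ _ ha hb => exact mul_mem ha hb
      exact key _ e.2)
  let U' := W'.comap iE
  let U := U'.comap fE
  let i₁ : U →+* U' := EtRam.inclOfComap U' fE
  let i₂ : U' →+* W' := EtRam.inclOfComap W' iE
  have hwu : (maximalIdeal U).map i₁ = maximalIdeal U' := hwU
  have hwu' : (maximalIdeal U').map i₂ = maximalIdeal W' := hw'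
  let _ : Algebra (ResidueField U) (ResidueField U') := (ResidueField.map i₁).toAlgebra
  let _ : Algebra (ResidueField U') (ResidueField W') := (ResidueField.map i₂).toAlgebra
  let _ : Algebra (ResidueField U) (ResidueField W') :=
    ((ResidueField.map i₂).comp (ResidueField.map i₁)).toAlgebra
  have : IsScalarTower (ResidueField U) (ResidueField U') (ResidueField W') :=
    IsScalarTower.of_algebraMap_eq fun _ => rfl
  have : Algebra.IsSeparable (ResidueField U) (ResidueField U') := hsU
  have : Algebra.IsGeometricallyReduced (ResidueField U') (ResidueField W') := hg'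
  have hgr : Algebra.IsGeometricallyReduced (ResidueField U) (ResidueField W') :=
    isGeometricallyReduced_trans _ (ResidueField U') _
  -- descend to `W`
  have hVW : W'.comap g = W := hWb
  have : IsDiscreteValuationRing (W'.comap g) := hVW ▸ ‹IsDiscreteValuationRing W›
  refine conclude_of_eq f hVW ⟨SolutionTower.weaklyUnramified_descends f g W' ?_,
    SolutionTower.isGeometricallyReduced_descends f g W' ?_⟩
  · show (maximalIdeal (W'.comap (g.comp f))).map (EtRam.inclOfComap W' (g.comp f)) = maximalIdeal W'
    exact (Ideal.map_map i₁ i₂).symm.trans ((congrArg (Ideal.map i₂) hwu).trans hwu')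
  · have e : ResidueField.map (EtRam.inclOfComap W' (g.comp f)) =
        (ResidueField.map i₂).comp (ResidueField.map i₁) := RingHom.ext fun r => by
      obtain ⟨r, rfl⟩ := residue_surjective r
      rfl
    rw [e]
    exact hgr

end Strict24
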