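import Groth.Agent.Ram24.SmoothBase
import Groth.Agent.EtAlg23.RamTower

/-!
# A finite extension of a solution is a solution
-/

set_option autoImplicit false
universe u

open IsLocalRing
open Groth.Agent Groth.Agent.EtAlg23

namespace Strict24

set_option maxHeartbeats 1000000 in
theorem isSolution_of_tower {A B K L : Type u} [CommRing A] [IsDomain A] [IsDiscreteValuationRing A]
    [CommRing B] [IsDomain B] [IsDiscreteValuationRing B] [Algebra A B] [IsLocalHom (algebraMap A B)]
    [Field K] [Field L] [Algebra A K] [IsFractionRing A K] [Algebra B L] [IsFractionRing B L]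
    [Algebra K L] [Algebra A L] [IsScalarTower A K L] [IsScalarTower A B L]
    (K₁ K₂ : Type u) [Field K₁] [Field K₂] [Algebra K K₁] [Algebra K K₂] [Algebra K₁ K₂]
    [IsScalarTower K K₁ K₂] [FiniteDimensional K K₁] [FiniteDimensional K₁ K₂]
    (h : EtRam.IsSolution B K L K₁) : EtRam.IsSolution B K L K₂ := by
  intro M _ _ _ _ _ _ hgen W hW
  have : FiniteDimensional K K₂ := FiniteDimensional.trans K K₁ K₂
  have := Ram24.finiteDimensional_of_adjoin_eq_top (K := K) hgen
  let f₁ : K₁ →+* M := (algebraMap K₂ M).comp (algebraMap K₁ K₂)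
  let F : IntermediateField L M := IntermediateField.adjoin L (Set.range f₁)
  have hf₁ : ∀ x, f₁ x ∈ F := fun x => IntermediateField.subset_adjoin _ _ ⟨x, rfl⟩
  let fF : K₁ →+* F := f₁.codRestrict F hf₁
  let _ : Algebra K₁ F := fF.toAlgebra
  have hKF : ∀ k : K, algebraMap L M (algebraMap K L k) = f₁ (algebraMap K K₁ k) := fun k => by
    show _ = algebraMap K₂ M (algebraMap K₁ K₂ (algebraMap K K₁ k))
    rw [← IsScalarTower.algebraMap_apply K K₁ K₂, ← IsScalarTower.algebraMap_apply K L M,
      ← IsScalarTower.algebraMap_apply K K₂ M]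
  let _ : Algebra K F := ((algebraMap L F).comp (algebraMap K L)).toAlgebra
  have : IsScalarTower K L F := IsScalarTower.of_algebraMap_eq fun _ => rfl
  have : IsScalarTower K K₁ F := IsScalarTower.of_algebraMap_eq fun k => Subtype.ext (hKF k)
  have : IsScalarTower K F M := IsScalarTower.of_algebraMap_eq fun k =>
    IsScalarTower.algebraMap_apply K L M k
  have hgenF : Algebra.adjoin L (Set.range (algebraMap K₁ F)) = ⊤ := by
    refine Subalgebra.map_injective (f := F.val) F.val.injective ?_
    rw [AlgHom.map_adjoin, Algebra.map_top, ← Set.range_comp, IntermediateField.range_val,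
      show F.toSubalgebra = Algebra.adjoin L (Set.range f₁) from
        IntermediateField.adjoin_toSubalgebra_of_isAlgebraic fun x _ => Algebra.IsAlgebraic.isAlgebraic x]
    rfl
  let g₀ : B →+* L := algebraMap B L
  have hdom₁ : EtRam.Dominates B ((algebraMap L F).comp g₀) (W.comap (algebraMap F M)) :=
    RamTower.dominates_comap (A := B) (K := L) (L := F) (M := M) hW
  obtain ⟨hw, hg⟩ := h F hgenF (W.comap (algebraMap F M)) hdom₁
  have := Ram24.dvr_of_dominates (B := B) (L := L) (W.comap (algebraMap F M)) hdom₁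
  set W₁ := W.comap (algebraMap F M) with hW₁
  have hdomA : EtRam.Dominates A ((algebraMap K F).comp (algebraMap A K)) W₁ := by
    have e : ∀ a, ((algebraMap K F).comp (algebraMap A K)) a =
        ((algebraMap L F).comp g₀) (algebraMap A B a) := fun a => by
      show algebraMap L F (algebraMap K L (algebraMap A K a)) = algebraMap L F (algebraMap B L (algebraMap A B a))
      rw [← IsScalarTower.algebraMap_apply A K L, ← IsScalarTower.algebraMap_apply A B L]
    exact ⟨fun a => e a ▸ hdom₁.1 _, fun a ha => e a ▸ hdom₁.2 _ (map_nonunit (algebraMap A B) a ha)⟩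
  have hdomU := RamTower.dominates_comap (A := A) (K := K) (L := K₁) (M := F) hdomA
  set U₁ := W₁.comap (algebraMap K₁ F)
  have := Ram24.dvr_of_dominates (B := A) (L := K) U₁ hdomU
  let _ : Algebra U₁ W₁ := (EtRam.inclOfComap W₁ (algebraMap K₁ F)).toAlgebra
  have : IsLocalHom (algebraMap U₁ W₁) := EtRam.isLocalHom_inclOfComap W₁ (algebraMap K₁ F)
  let _ : Algebra U₁ F := ((algebraMap K₁ F).comp (algebraMap U₁ K₁)).toAlgebra
  have : IsScalarTower U₁ K₁ F := IsScalarTower.of_algebraMap_eq fun _ => rfl
  have : IsScalarTower U₁ W₁ F := IsScalarTower.of_algebraMap_eq fun _ => rfl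
  have : Algebra.IsGeometricallyReduced (ResidueField U₁) (ResidueField W₁) := by
    convert hg using 2
    refine Algebra.algebra_ext _ _ fun r => ?_
    obtain ⟨r, rfl⟩ := residue_surjective r
    rfl
  have hsol : EtRam.IsSolution W₁ K₁ F K₂ :=
    Ram24.isSolution_of_smooth U₁ (B := W₁) (L := F) hw K₂
  let _ : Algebra K₁ M := f₁.toAlgebra
  have : IsScalarTower K₁ F M := IsScalarTower.of_algebraMap_eq fun _ => rfl
  have : IsScalarTower K₁ K₂ M := IsScalarTower.of_algebraMap_eq fun _ => rfl
  refine hsol M ?_ W (RamTower.dominates_base (L := F) W)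
  rw [eq_top_iff]
  intro x hxt
  clear hxt
  have hx : x ∈ Algebra.adjoin L (Set.range (algebraMap K₂ M)) := hgen ▸ Algebra.mem_top
  induction hx using Algebra.adjoin_induction with
  | mem y hy => exact Algebra.subset_adjoin hy
  | algebraMap l => exact Subalgebra.algebraMap_mem _ (algebraMap L F l)
  | add a b _ _ ha hb => exact add_mem ha hb
  | mul a b _ _ ha hb => exact mul_mem ha hb

end Strict24
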